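import Cfsg.Agent.H657.IBrBlock
import Cfsg.Agent.Blocks.Covering

/-!
# HUB S4536: definitions for the Clifford theory of Brauer characters
-/

set_option autoImplicit false

open Cfsg IsLocalRing Module
open Cfsg.Agent.H657

namespace Cfsg.Agent.H577.GLB

universe u

variable {V : ValuationSubring ℂ} {G : Type u} [Group G]

/-- the conjugate of a function on a normal subgroup -/
def cj (N : Subgroup G) [hN : N.Normal] (g : G) (f : N → ℂ) : N → ℂ :=
  fun x => f ⟨g * x * g⁻¹, hN.conj_mem x x.2 g⟩

/-- `O` is the set of constituents of the restriction of the Brauer character `i` to `N` (multiplicity one) -/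
def IsRes (p : ℕ) (N : Subgroup G) (i : IBr V G) (O : Finset (IBr V N)) : Prop :=
  ∀ x : N, phi p i x = ∑ j ∈ O, phi p j x

/-- the block `B` of `G` covers the block `B'` of `N` -/
def Cov (N : Subgroup G) (B : Set (IrrCharacter G)) (B' : Set (IrrCharacter N)) : Prop :=
  ∃ χ ∈ B, ∃ ε ∈ B', (∑ᶠ x : N, (ε : N → ℂ) x * (starRingEnd ℂ) ((χ : G → ℂ) x)) ≠ 0

/-- Harish-Chandra restriction: averaging over the unipotent radical `U` -/
noncomputable def hcRes (L U : Subgroup G) (f : G → ℂ) : L → ℂ := fun x =>
  (∑ᶠ u : U, f (x * u)) / (Nat.card U : ℂ)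

end Cfsg.Agent.H577.GLB
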