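import Cfsg.Agent.H577.GLB.Real
import Cfsg.Agent.H577.GLB.StdCount
import Cfsg.Agent.H614.GLn.RSForm

/-!
# HUB S4536: labels of irreducible characters of `GL_n(F)`

* `lin F θ M a` : the linear character of `F^×` with label `a`; `linH` : as a homomorphism;
* `PGen Q M p` : the subring generated by the variables with labels of order prime to `p`;
* `IsLab θ M m n χ t` : `t` is the label of the irreducible character `χ`;
* `frm Q M y` : the form as a linear functional of its first argument;
* `cfE Q M f x y₁ y₂` : the coefficient of `y₁ ⊗ y₂` in the restriction of `x` to `GL_k(E) × GL_l(F)`, `[E : F] = f`.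
-/

set_option autoImplicit false

open Polynomial Cfsg
open scoped ComplexConjugate TensorProduct

namespace Cfsg.Agent.H577.GLB.Real

open Cfsg.Agent.H614.GLn Cfsg.Agent.H577.GLB.Std Cfsg.Agent.H614.GLn.RSt

universe u v w

section
variable {F : Type u} [Field F] {K : Type w} [Field K] [Algebra F K]

/-- the linear character of `F^×` with label `a` -/
noncomputable def lin (F : Type u) [Field F] {K : Type w} [Field K] [Algebra F K] (θ : K →*₀ ℂ) (M : ℕ)
    (a : ZMod M) (y : Fˣ) : ℂ := θ (algebraMap F K y) ^ expo (Nat.card F) M 1 a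

/-- the linear character of `F^×` with label `a`, as a homomorphism -/
noncomputable def linH (F : Type u) [Field F] {K : Type w} [Field K] [Algebra F K] (θ : K →*₀ ℂ) (M : ℕ)
    (a : ZMod M) : Fˣ →* ℂˣ :=
  (powMonoidHom (expo (Nat.card F) M 1 a)).comp
    ((Units.map (θ : K →* ℂ)).comp (Units.map (algebraMap F K : F →* K)))

theorem linH_apply (θ : K →*₀ ℂ) (M : ℕ) (a : ZMod M) (y : Fˣ) : ((linH F θ M a y : ℂˣ) : ℂ) = lin F θ M a y := by
  simp [linH, lin]

/-- `t` is the label of the irreducible character `χ` -/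
def IsLab (θ : K →*₀ ℂ) (M m n : ℕ) [NeZero M] (χ : IrrCharacter (GL (Fin n) F))
    (t : LabZ (Nat.card F) M m n) : Prop :=
  ∃ s : ℤˣ, Om (F := F) θ M n (SchP (Nat.card F) M t.t) = (((s : ℤ) : ℂ)) • (χ : GL (Fin n) F → ℂ)

end

/-- the subring of the standard model generated by the variables with labels of order prime to `p` -/
noncomputable def PGen (Q : ℤ) (M p : ℕ) : Subalgebra ℂ (RS M) :=
  Algebra.adjoin ℂ {x | ∃ (k : ℕ) (c : ZMod M), PReg M p c ∧ x = rv Q M k c}

/-- the form as a linear functional of its first argument -/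
noncomputable def frm (Q : ℤ) (M : ℕ) (y : RS M) : RS M →ₗ[ℂ] ℂ where
  toFun x := form Q M x y
  map_add' x x' := form_add_left Q M x x' y
  map_smul' a x := by
    rw [form_smul_left Q M]
    rfl

/-- the coefficient of `y₁ ⊗ y₂` in the restriction of `x` to `GL_k(E) × GL_l(F)`, `[E : F] = f` -/
noncomputable def cfE (Q : ℤ) (M f : ℕ) (x y₁ y₂ : RS M) : ℂ :=
  LinearMap.mul' ℂ ℂ (TensorProduct.map ((frm (Q ^ f) M y₁) ∘ₗ (PhiF Q M f).toLinearMap) (frm Q M y₂) (coP M x))

end Cfsg.Agent.H577.GLB.Real
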