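import Cfsg.Agent.H577.GLB.StdLab
import Cfsg.Agent.H614.GLn.Labels
import Cfsg.Agent.H941.GLn.Ring
import Cfsg.Prelude.Def_BlockRank

/-!
# HUB S4536: the realization of the standard model in the class functions of `GL_n(F)`

* `piA θ M : RS M →ₐ[ℂ] Fam F`, variable `(k, c)` to the cuspidal class function `Rc θ M k c`;
* `Om θ M n x` : the class function of `GL (Fin n) F`;
* `coP` : the coproduct of `RS M` (all variables primitive);
* `PhiF q f` : the map of standard models for the extension of degree `f` (restricted to `p'`-labels).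
-/

set_option autoImplicit false

open Polynomial Cfsg
open scoped ComplexConjugate TensorProduct

namespace Cfsg.Agent.H577.GLB.Real

open Cfsg.Agent.H614.GLn Cfsg.Agent.H577.GLB.Std

universe u w

section

variable {F : Type u} [Field F] {K : Type w} [Field K] [Algebra F K] (θ : K →*₀ ℂ) (M : ℕ)

/-- the realization of the standard model -/
noncomputable def piA : RS M →ₐ[ℂ] Fam F := MvPolynomial.aeval fun v : Var M => Rc θ M v.1 v.2

/-- the class function of `GL_n(F)` attached to a polynomial -/
noncomputable def Om (n : ℕ) (x : RS M) : GL (Fin n) F → ℂ := fun g =>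
  (piA (F := F) θ M x).fn (Fin n → F) (Matrix.toLin' (g : Matrix (Fin n) (Fin n) F))

/-- evaluation at an endomorphism as a linear functional -/
noncomputable def evA {V : Type u} [AddCommGroup V] [Module F V] (T : V →ₗ[F] V) : RS M →ₗ[ℂ] ℂ where
  toFun x := (piA (F := F) θ M x).fn V T
  map_add' x y := by rw [map_add]; rfl
  map_smul' c x := by rw [map_smul]; rfl

end

/-- the coproduct of the standard model: all variables are primitive -/
noncomputable def coP (M : ℕ) : RS M →ₐ[ℂ] RS M ⊗[ℂ] RS M :=
  MvPolynomial.aeval fun v : Var M => (MvPolynomial.X v) ⊗ₜ[ℂ] (1 : RS M) + (1 : RS M) ⊗ₜ[ℂ] (MvPolynomial.X v)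

open Classical in
/-- the map of standard models `R_std(Q) → R_std(Q ^ f)` (for labels of order prime to `p`): the restriction from
`GL_n` over the small field to `GL_{n/f}` over the extension of degree `f`, translated by a `p`-element generating
the extension -/
noncomputable def PhiF (Q : ℤ) (M f : ℕ) : RS M →ₐ[ℂ] RS M :=
  MvPolynomial.aeval fun v : Var M =>
    if f ∣ v.1 then ∑ j ∈ Finset.range f, rv (Q ^ f) M (v.1 / f) ((Q : ZMod M) ^ j * v.2) else 0

end Cfsg.Agent.H577.GLB.Real
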