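import Cfsg.Agent.H577.GLB.Std
import Cfsg.Agent.H614.Weight

/-!
# HUB S4536 / S4537: labels in the standard model
-/

set_option autoImplicit false

open scoped ComplexConjugate

namespace Cfsg.Agent.H577.GLB.Std

open MvPolynomial H614

/-- the size of the partition of a `β`-tuple -/
def bsz {m : ℕ} (β : Fin m → ℕ) : ℕ := ∑ i, β i - ∑ i : Fin m, (i : ℕ)

/-- labels of irreducible characters: a strictly increasing tuple of length `m` for each label, constant on
`Q`-orbits, of total size `n` -/
@[ext] structure LabZ (Q : ℤ) (M m n : ℕ) [NeZero M] where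
  /-- the tuples -/
  t : ZMod M → Fin m → ℕ
  mono : ∀ c, StrictMono (t c)
  orb : ∀ c, t ((Q : ZMod M) * c) = t c
  sum : ∑ c : ZMod M, bsz (t c) = n

section

variable (Q : ℤ) (M : ℕ) [NeZero M] (p : ℕ)

open Classical in
/-- the product of the Schur functions of an arbitrary family of tuples over the canonical labels -/
noncomputable def SchP {m : ℕ} (t : ZMod M → Fin m → ℕ) : RS M :=
  ∏ c ∈ Finset.univ.filter (fun c : ZMod M => canon Q M c = c), Sch Q M c (t c)

/-- labels of order prime to `p` -/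
def PReg (c : ZMod M) : Prop := (addOrderOf c).Coprime p

/-- labels of `p`-power order -/
def PPow (c : ZMod M) : Prop := ∃ j : ℕ, addOrderOf c = p ^ j

open Classical in
/-- the multiplicity of the `p'`-label `δ` -/
noncomputable def sfun {m : ℕ} (t : ZMod M → Fin m → ℕ) (δ : ZMod M) : ℕ :=
  ∑ c ∈ Finset.univ.filter (fun c : ZMod M => PPow M p (c - δ)), bsz (t c)

/-- the order of `Q ^ per` modulo `p` -/
noncomputable def eD (δ : ZMod M) : ℕ := orderOf ((Q : ZMod p) ^ perZ Q M δ)

/-- two families of tuples in the same family -/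
def SameFam {m : ℕ} (t t' : ZMod M → Fin m → ℕ) : Prop :=
  ∀ δ, PReg M p δ → sfun M p t δ = sfun M p t' δ ∧ SameCol (eD Q M p δ) (t δ) (t' δ)

/-- only `p'`-labels occur -/
def POnly {m : ℕ} (t : ZMod M → Fin m → ℕ) : Prop := ∀ c, ¬ PReg M p c → bsz (t c) = 0

/-- the `e`-weight of a tuple -/
def ewt {m : ℕ} (e : ℕ) (β : Fin m → ℕ) : ℕ := ∑ j, β j / e - npairs e β

open Classical in
/-- the total weight of a family of tuples with `p'`-labels only -/
noncomputable def totW {m : ℕ} (t : ZMod M → Fin m → ℕ) : ℕ :=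
  ∑ δ ∈ Finset.univ.filter (fun δ : ZMod M => canon Q M δ = δ ∧ PReg M p δ), ewt (eD Q M p δ) (t δ)

end

end Cfsg.Agent.H577.GLB.Std
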