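import Cfsg.Agent.H614.Complete
import Mathlib.Algebra.MvPolynomial.Variables
import Mathlib.RingTheory.MvPolynomial.WeightedHomogeneous
import Mathlib.Algebra.MvPolynomial.PDeriv
import Mathlib.Data.ZMod.Basic
import Mathlib.Analysis.Complex.Basic

/-!
# HUB S4536 / S4537: the standard model `R_std(Q)`

`Q : ℤ` (`Q = q` for `GL_n(q)`, `Q = -q` for `GU_n(q)`), labels `c : ZMod M` up to multiplication by `Q`
(`Q` a unit modulo `M`).  The ring is `MvPolynomial (ℕ × ZMod M) ℂ`; the variable `rv Q M k c` stands for the
cuspidal class function of level `k` and label `c` (`(Q ^ k - 1) c = 0`).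

* `TorZ Q M k c` : the label `c` has level `k`;
* `canon Q M c` : the canonical representative of the `Q`-orbit of `c`;
* `perZ Q M c` : the size of the orbit;
* `rv Q M k c` : the variable (zero if `k = 0` or `c` does not have level `k`);
* `zz Q M v` : the norm of the variable `v`, the number of `j < k` with `Q ^ j c = c`;
* `form Q M P P'` : the Wick form;
* `Eta Q M p k` : the `p`-characters of level `k`;
* `tauP Q M p` : truncation to the `p`-regular elements (algebra homomorphism);
* `twist Q M a` : multiplication by the linear character with label `a`;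
* `Pw Q M j c` : power sum `P_j` of the label `c`; `Sch Q M c β` : Schur function of a `β`-tuple;
* `wt` : the weight `(k, c) ↦ k`.
-/

set_option autoImplicit false

open scoped ComplexConjugate

namespace Cfsg.Agent.H577.GLB.Std

open MvPolynomial

/-- the variables -/
abbrev Var (M : ℕ) := ℕ × ZMod M

/-- the ring -/
abbrev RS (M : ℕ) := MvPolynomial (Var M) ℂ

section

variable (Q : ℤ) (M : ℕ)

/-- the label `c` has level `k` -/
def TorZ (k : ℕ) (c : ZMod M) : Prop := ((Q : ZMod M) ^ k - 1) * c = 0

/-- two labels in the same orbit -/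
def SameZ (c c' : ZMod M) : Prop := ∃ j : ℕ, c' = (Q : ZMod M) ^ j * c

/-- the size of the orbit -/
noncomputable def perZ (c : ZMod M) : ℕ := Function.minimalPeriod (fun x : ZMod M => (Q : ZMod M) * x) c

open Classical in
/-- the canonical representative of the orbit: the smallest value -/
noncomputable def canon (c : ZMod M) : ZMod M :=
  ((sInf {n : ℕ | ∃ j : ℕ, n = ((Q : ZMod M) ^ j * c).val} : ℕ) : ZMod M)

open Classical in
/-- the cuspidal variable of level `k` and label `c` -/
noncomputable def rv (k : ℕ) (c : ZMod M) : RS M :=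
  if 0 < k ∧ TorZ Q M k c then X (k, canon Q M c) else 0

open Classical in
/-- the norm of a variable -/
noncomputable def zz (v : Var M) : ℕ := ((Finset.range v.1).filter fun j => (Q : ZMod M) ^ j * v.2 = v.2).card

/-- the Wick form -/
noncomputable def form (P P' : RS M) : ℂ :=
  ∑ m ∈ P.support, P.coeff m * conj (P'.coeff m) *
    (m.prod fun v e => (e.factorial : ℂ) * (zz Q M v : ℂ) ^ e)

/-- the genuine variables -/
def GenVar (v : Var M) : Prop := 0 < v.1 ∧ TorZ Q M v.1 v.2 ∧ canon Q M v.2 = v.2

/-- the genuine polynomials, the image of the ring generated by the cuspidal variables -/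
noncomputable def GenR : Subalgebra ℂ (RS M) := Algebra.adjoin ℂ (Set.range fun v : Var M => rv Q M v.1 v.2)

/-- weighted homogeneous polynomials of weight `n` in the genuine variables -/
noncomputable def Hom (n : ℕ) : Submodule ℂ (RS M) :=
  (GenR Q M).toSubmodule ⊓ weightedHomogeneousSubmodule ℂ (fun v : Var M => v.1) n

variable (p : ℕ)

open Classical in
/-- the `p`-characters of level `k` -/
noncomputable def Eta [NeZero M] (k : ℕ) : Finset (ZMod M) :=
  Finset.univ.filter fun η => TorZ Q M k η ∧ ∃ j : ℕ, (p : ZMod M) ^ j * η = 0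

/-- truncation to the `p`-regular elements -/
noncomputable def tauP [NeZero M] : RS M →ₐ[ℂ] RS M :=
  aeval fun v : Var M => ((Eta Q M p v.1).card : ℂ)⁻¹ • ∑ η ∈ Eta Q M p v.1, rv Q M v.1 (v.2 + η)

/-- multiplication by a linear character -/
noncomputable def twist (a : ZMod M) : RS M →ₐ[ℂ] RS M := aeval fun v : Var M => rv Q M v.1 (v.2 + a)

/-- the power sums of a label -/
noncomputable def Pw (j : ℕ) (c : ZMod M) : RS M := rv Q M (j * perZ Q M c) c

open Classical in
/-- the Schur function of a `β`-tuple and a label -/
noncomputable def Sch {m : ℕ} (c : ZMod M) (β : Fin m → ℕ) : RS M :=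
  ∑ ν : Nat.Partition (∑ i, β i - ∑ i : Fin m, (i : ℕ)),
    ((H614.FM ν.parts β : ℂ) /
      (∏ i ∈ ν.parts.toFinset, (i : ℂ) ^ (ν.parts.count i) * ((ν.parts.count i).factorial : ℂ))) •
      (ν.parts.map fun j => Pw Q M j c).prod

end

end Cfsg.Agent.H577.GLB.Std
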