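import Cfsg.Agent.H577.GLB.Fam
import Cfsg.Agent.H666.Clif.P2
import Cfsg.Agent.S4438
import Cfsg.Agent.H583.SecRank
import Cfsg.Agent.H530.KulBase

/-!
# HUB S4536: ranks of defect groups

* `exists_inf` (Knörr): a defect group `P` of `B` with `P ⊓ S` the given defect group of the block `B'` of `S` below `B`;
* `weight_le`: if the defect groups of the block `B` of `GL_n(F)` contain elementary abelian subgroups of order `p ^ W`
  and a defect group of the block `B'` of `ker det` below `B` has sectional rank at most `s`, then `W ≤ s + 1`, and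
  `W ≤ s` if `p` does not divide `q - 1`;
* `two_le`: a noncyclic `p`-group has sectional rank at least two.
-/

set_option autoImplicit false

open Cfsg
open scoped ComplexConjugate MatrixGroups

namespace Cfsg.Agent.H577.GLB.Rank

universe u

section gen
variable {G : Type u} [Group G] [Finite G] {p : ℕ} {M : Ideal AlgInt}

/-- **Knörr's theorem** -/
theorem exists_inf (hM : IsPModular p M) (S : Subgroup G) [S.Normal] {B : Set (IrrCharacter G)} (hB : IsPBlock M B)
    {B' : Set (IrrCharacter S)} (hB' : IsPBlock M B') (hcov : Cov S B B') (D' : Subgroup S)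
    (hD' : IsDefectGroup p M B' D') :
    ∃ P : Subgroup G, IsDefectGroup p M B P ∧ P ⊓ S = D'.map S.subtype := by
  classical
  have : Fact p.Prime := ⟨hM.1⟩
  have := Fintype.ofFinite G
  have := Fintype.ofFinite S
  obtain ⟨χ, hχ, ε, hε, h⟩ := hcov
  refine Cfsg.Agent.S4438.result p M hM S B' hB' (D'.map S.subtype) ?_ ?_ B hB ⟨χ, hχ, ε, hε, ?_⟩
  · rintro _ ⟨x, -, rfl⟩
    exact x.2
  · have h1 : (D'.map S.subtype).subgroupOf S = D' :=
      Subgroup.comap_map_eq_self_of_injective S.subtype_injective D'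
    rw [h1]
    exact hD'
  · exact (H666.Clif.ov_iff S χ ε).1 ((H666.Clif.ov_iff_cov S χ ε).2 h)

theorem card_le_inf {C : Type*} [Group C] (f : G →* C) (A : Subgroup G) :
    Nat.card A = Nat.card (A ⊓ f.ker : Subgroup G) * Nat.card (A.map f) := by
  rw [← Subgroup.relIndex_ker, ← Subgroup.card_mul_index (f.ker.subgroupOf A)]
  congr 1
  rw [← Subgroup.inf_subgroupOf_left f.ker A]
  exact Nat.card_congr (Subgroup.subgroupOfEquivOfLe inf_le_left).toEquiv

/-- A noncyclic `p`-group has sectional rank at least two. -/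
theorem two_le (hp : p.Prime) (hG : IsPGroup p G) (hnc : ¬ IsCyclic G) {s : ℕ} (hs : SectionalPRankLE p s G) : 2 ≤ s := by
  have : Fact p.Prime := ⟨hp⟩
  obtain ⟨M₁, hM₁, -⟩ := H530.Kul.exists_index_of_ne_top hG ⊥ (by
    intro h
    apply hnc
    have h1 : Subsingleton G := ⟨fun a b => by
      have ha : a ∈ (⊥ : Subgroup G) := h ▸ Subgroup.mem_top a
      have hb : b ∈ (⊥ : Subgroup G) := h ▸ Subgroup.mem_top b
      rw [Subgroup.mem_bot.1 ha, Subgroup.mem_bot.1 hb]⟩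
    exact isCyclic_of_subsingleton)
  obtain ⟨M₂, hM₂, hne⟩ := H530.Kul.exists_two_of_not_isCyclic hG hnc M₁ hM₁
  have n1 := Cfsg.Agent.PLocal.CyclicIndexP.normal_of_index hG hM₁
  have n2 := Cfsg.Agent.PLocal.CyclicIndexP.normal_of_index hG hM₂
  have key : ∀ T : Subgroup G, T.Normal → T.index = p → (∀ a b : G, a * b * a⁻¹ * b⁻¹ ∈ T) ∧ ∀ a : G, a ^ p ∈ T := by
    intro T hT hi
    have hcy : IsCyclic (G ⧸ T) := isCyclic_of_prime_card (p := p) hi
    have hcm : ∀ x y : G ⧸ T, x * y = y * x := by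
      intro x y
      exact mul_comm' x y
    refine ⟨fun a b => ?_, fun a => ?_⟩
    · rw [← QuotientGroup.eq_one_iff]
      have h1 := hcm (a : G ⧸ T) (b : G ⧸ T)
      have h2 : ((a * b * a⁻¹ * b⁻¹ : G) : G ⧸ T) = (a : G ⧸ T) * b * (a : G ⧸ T)⁻¹ * (b : G ⧸ T)⁻¹ := rfl
      rw [h2, h1]
      group
    · rw [← QuotientGroup.eq_one_iff, QuotientGroup.mk_pow]
      have h1 : (a : G ⧸ T) ^ Nat.card (G ⧸ T) = 1 := pow_card_eq_one'
      rwa [show Nat.card (G ⧸ T) = p from hi] at h1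
  obtain ⟨a1, b1⟩ := key M₁ n1 hM₁
  obtain ⟨a2, b2⟩ := key M₂ n2 hM₂
  have h1 := H583.SecRank.index_le hs (M₁ ⊓ M₂) (fun a b => ⟨a1 a b, a2 a b⟩) (fun a => ⟨b1 a, b2 a⟩)
  -- the index of the intersection is `p ^ 2`
  have h2 : p ^ 2 ≤ (M₁ ⊓ M₂).index := by
    have h3 : (M₁ ⊓ M₂).relIndex M₁ * M₁.index = (M₁ ⊓ M₂).index := Subgroup.relIndex_mul_index inf_le_left
    have h4 : (M₁ ⊓ M₂).relIndex M₁ ≠ 1 := by
      intro h
      have h5 : M₁ ≤ M₁ ⊓ M₂ := Subgroup.relIndex_eq_one.1 h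
      have h6 : M₁ ≤ M₂ := h5.trans inf_le_right
      apply hne
      have h7 := Subgroup.relIndex_mul_index h6
      rw [hM₁, hM₂] at h7
      have h8 : M₁.relIndex M₂ = 1 := by
        have := hp.pos
        exact Nat.eq_of_mul_eq_mul_right this (by rw [h7, one_mul])
      exact le_antisymm (Subgroup.relIndex_eq_one.1 h8) h6
    have h9 : (M₁ ⊓ M₂).relIndex M₁ ∣ Nat.card G := (Subgroup.relIndex_dvd_card _ _).trans (Subgroup.card_subgroup_dvd_card _)
    obtain ⟨k, hk⟩ := IsPGroup.iff_card.1 hG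
    rw [hk] at h9
    obtain ⟨j, -, hj⟩ := (Nat.dvd_prime_pow hp).1 h9
    have hj0 : j ≠ 0 := by
      rintro rfl
      exact h4 (by rw [hj, pow_zero])
    rw [← h3, hM₁, hj, sq]
    exact Nat.mul_le_mul_right _ (Nat.le_self_pow hj0 p)
  exact (Nat.pow_le_pow_iff_right hp.one_lt).1 (h2.trans h1)

end gen

section field
variable {F : Type u} [Field F] [Finite F] {p n : ℕ} {𝔐 : Ideal AlgInt}

open Cfsg.Agent.H577.GLB.Real (slS)

theorem card_units_le (hp : p.Prime) (B : Subgroup Fˣ) (hB : ∀ x ∈ B, x ^ p = 1) : Nat.card B ≤ p := by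
  have : NeZero p := ⟨hp.ne_zero⟩
  have h1 : B ≤ rootsOfUnity p F := fun x hx => (mem_rootsOfUnity p x).2 (hB x hx)
  refine (Subgroup.card_le_of_le h1).trans ?_
  exact card_rootsOfUnity F p

theorem card_units_eq (hp : p.Prime) (hq : ¬ p ∣ Nat.card F - 1) (B : Subgroup Fˣ) (hB : ∀ x ∈ B, x ^ p = 1) :
    Nat.card B = 1 := by
  rw [Subgroup.card_eq_one, Subgroup.eq_bot_iff_forall]
  intro x hx
  have h1 : orderOf x ∣ p := orderOf_dvd_of_pow_eq_one (hB x hx)
  have h2 : orderOf x ∣ Nat.card F - 1 := by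
    rw [← Nat.card_units]
    exact orderOf_dvd_natCard x
  rcases (Nat.dvd_prime hp).1 h1 with h | h
  · exact orderOf_eq_one_iff.1 h
  · exact absurd (h ▸ h2) hq

/-- **The weight and the rank.** -/
theorem weight_le (hM : IsPModular p 𝔐) {B : Set (IrrCharacter (GL (Fin n) F))} (hB : IsPBlock 𝔐 B)
    {B' : Set (IrrCharacter (slS F n))} (hB' : IsPBlock 𝔐 B') (hcov : Cov (slS F n) B B')
    (D' : Subgroup (slS F n)) (hD' : IsDefectGroup p 𝔐 B' D') {s : ℕ} (hs : SectionalPRankLE p s D') {W : ℕ}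
    (hW : ∀ D : Subgroup (GL (Fin n) F), IsDefectGroup p 𝔐 B D → ∃ A : Subgroup (GL (Fin n) F), A ≤ D ∧
      (∀ x ∈ A, ∀ y ∈ A, x * y = y * x) ∧ (∀ x ∈ A, x ^ p = 1) ∧ Nat.card A = p ^ W) :
    W ≤ s + 1 ∧ (¬ p ∣ Nat.card F - 1 → W ≤ s) := by
  have hp := hM.1
  obtain ⟨P, hP, hPS⟩ := exists_inf hM (slS F n) hB hB' hcov D' hD'
  obtain ⟨A, hAP, hcomm, hexp, hcard⟩ := hW P hP
  -- the intersection with the kernel of the determinant
  set f : GL (Fin n) F →* Fˣ := Matrix.GeneralLinearGroup.det with hf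
  have h1 := card_le_inf f A
  have hker : f.ker = slS F n := rfl
  have hsP : SectionalPRankLE p s (P ⊓ slS F n : Subgroup (GL (Fin n) F)) := by
    rw [hPS]
    exact H583.SecRank.sectional_of_mulEquiv hs (D'.equivMapOfInjective _ (slS F n).subtype_injective)
  have hle : A ⊓ f.ker ≤ P ⊓ slS F n := inf_le_inf hAP (le_of_eq hker)
  have h2 : Nat.card (A ⊓ f.ker : Subgroup (GL (Fin n) F)) ≤ p ^ s := by
    have h3 := H583.SecRank.pRankLE hsP ((A ⊓ f.ker).subgroupOf (P ⊓ slS F n)) ⟨⟨by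
      rintro ⟨⟨x, hx⟩, hx'⟩ ⟨⟨y, hy⟩, hy'⟩
      apply Subtype.ext
      apply Subtype.ext
      exact hcomm x hx'.1 y hy'.1⟩⟩ (by
      rintro ⟨x, hx⟩ hx'
      apply Subtype.ext
      exact hexp x hx'.1)
    rwa [Nat.card_congr (Subgroup.subgroupOfEquivOfLe hle).toEquiv] at h3
  have hexp' : ∀ y ∈ A.map f, y ^ p = 1 := by
    rintro _ ⟨x, hx, rfl⟩
    rw [← map_pow, hexp x hx, map_one]
  constructor
  · have h3 := card_units_le hp (A.map f) hexp'
    rw [hcard] at h1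
    have h4 : p ^ W ≤ p ^ (s + 1) := by
      rw [h1, pow_succ]
      exact Nat.mul_le_mul h2 h3
    exact (Nat.pow_le_pow_iff_right hp.one_lt).1 h4
  · intro hq
    have h3 := card_units_eq hp hq (A.map f) hexp'
    rw [hcard, h3, mul_one] at h1
    exact (Nat.pow_le_pow_iff_right hp.one_lt).1 (h1 ▸ h2)

end field

end Cfsg.Agent.H577.GLB.Rank
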